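import Mathlib
import Cfsg.Agent.GLFourTwo.Iso

/-!
# `A₇` on the fifteen non-zero vectors of a four-dimensional space over the field of two elements
-/

set_option autoImplicit false

namespace CfsgLib.AltSevenFifteen

open Matrix MulAction

theorem card_alt_seven : Nat.card (alternatingGroup (Fin 7)) = 2520 := by
  rw [nat_card_alternatingGroup, Nat.card_eq_fintype_card, Fintype.card_fin]
  decide

/-- A subgroup of index less than seven is everything. -/
theorem eq_top_of_index_lt {G : Type*} [Group G] (e : G ≃* alternatingGroup (Fin 7)) (S : Subgroup G)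
    (h : S.index < 7) : S = ⊤ := by
  haveI : Finite G := Finite.of_equiv _ e.symm.toEquiv
  haveI : IsSimpleGroup (alternatingGroup (Fin 7)) :=
    alternatingGroup.isSimpleGroup (α := Fin 7) (by rw [Nat.card_eq_fintype_card, Fintype.card_fin]; norm_num)
  haveI : IsSimpleGroup G := e.isSimpleGroup
  rcases Subgroup.Normal.eq_bot_or_eq_top (Subgroup.normalCore_normal S) with hc | hc
  · exfalso
    let f : G →* Equiv.Perm (G ⧸ S) := MulAction.toPermHom G (G ⧸ S)
    have hinj : Function.Injective f := by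
      rw [← MonoidHom.ker_eq_bot_iff, ← Subgroup.normalCore_eq_ker]
      exact hc
    have h1 := Nat.card_le_card_of_injective f hinj
    rw [Nat.card_perm, ← Subgroup.index_eq_card, Nat.card_congr e.toEquiv, card_alt_seven] at h1
    have h2 := Nat.factorial_le (show S.index ≤ 6 by omega)
    norm_num [Nat.factorial] at h2
    omega
  · exact eq_top_iff.2 (hc ▸ Subgroup.normalCore_le S)

variable {F : Type*} [Field F] [Fintype F]

/-- A prime power element fixing as many vectors as it may. -/
theorem card_fixed (hF : Fintype.card F = 2) (x : GL (Fin 4) F) (p : ℕ) [Fact p.Prime] (hx : x ^ p = 1) :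
    ∃ d : ℕ, d ≤ 4 ∧ Nat.card {v : Fin 4 → F // (x : Matrix (Fin 4) (Fin 4) F) *ᵥ v = v} = 2 ^ d ∧
      16 ≡ 2 ^ d [MOD p] ∧ (d = 4 → x = 1) := by
  classical
  let W := LinearMap.ker (Matrix.toLin' (x : Matrix (Fin 4) (Fin 4) F) - LinearMap.id)
  have hW : ∀ v, v ∈ W ↔ (x : Matrix (Fin 4) (Fin 4) F) *ᵥ v = v := fun v => by
    simp [W, sub_eq_zero, Matrix.toLin'_apply]
  have e : {v : Fin 4 → F // (x : Matrix (Fin 4) (Fin 4) F) *ᵥ v = v} ≃ W :=
    Equiv.subtypeEquivRight fun v => (hW v).symm
  have hd : Module.finrank F W ≤ 4 := (Submodule.finrank_le W).trans (by rw [Module.finrank_fin_fun])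
  refine ⟨Module.finrank F W, hd, ?_, ?_, fun h4 => ?_⟩
  · rw [Nat.card_congr e, Module.natCard_eq_pow_finrank (K := F), Nat.card_eq_fintype_card, hF]
  · let act : MulAction (Subgroup.zpowers x) (Fin 4 → F) :=
      { smul := fun g v => ((g : GL (Fin 4) F) : Matrix (Fin 4) (Fin 4) F) *ᵥ v
        one_smul := fun v => one_mulVec v
        mul_smul := fun g h v => by
          show ((g : GL (Fin 4) F) * h : GL (Fin 4) F).1 *ᵥ v = _
          rw [Units.val_mul, ← mulVec_mulVec]
          rfl }
    letI := act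
    have hp : IsPGroup p (Subgroup.zpowers x) := by
      rcases Nat.dvd_prime (Fact.out : p.Prime) |>.1 (orderOf_dvd_of_pow_eq_one hx) with h | h
      · exact IsPGroup.of_card (n := 0) (by rw [Nat.card_zpowers, h, pow_zero])
      · exact IsPGroup.of_card (n := 1) (by rw [Nat.card_zpowers, h, pow_one])
    have h := hp.card_modEq_card_fixedPoints (Fin 4 → F)
    have e2 : fixedPoints (Subgroup.zpowers x) (Fin 4 → F) ≃ W := Equiv.subtypeEquivRight fun v => by
      rw [hW]
      constructor
      · intro hv; exact hv ⟨x, Subgroup.mem_zpowers x⟩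
      · intro hv g
        have : (⟨x, Subgroup.mem_zpowers x⟩ : Subgroup.zpowers x) ∈ MulAction.stabilizer _ v := hv
        obtain ⟨k, hk⟩ := Subgroup.mem_zpowers_iff.1 g.2
        have hg : g = (⟨x, Subgroup.mem_zpowers x⟩ : Subgroup.zpowers x) ^ k := Subtype.ext hk.symm
        rw [hg]
        exact zpow_mem this k
    rw [Nat.card_congr e2, Module.natCard_eq_pow_finrank (K := F), Module.finrank_fin_fun, Nat.card_eq_fintype_card,
      hF] at h
    rw [Module.natCard_eq_pow_finrank (K := F) (V := W), Nat.card_eq_fintype_card, hF] at h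
    exact h
  · have htop : W = ⊤ := Submodule.eq_top_of_finrank_eq (by rw [h4, Module.finrank_fin_fun])
    apply Units.ext
    apply Matrix.toLin'.injective
    refine LinearMap.ext fun v => ?_
    have := (hW v).1 (htop ▸ Submodule.mem_top)
    simpa [Matrix.toLin'_apply] using this

/-- The two-transitivity. -/
theorem two_transitive (hF : Fintype.card F = 2) (H : Subgroup (GL (Fin 4) F))
    (e : H ≃* alternatingGroup (Fin 7)) (v w v' w' : Fin 4 → F) (hv : v ≠ 0) (hw : w ≠ 0) (hvw : v ≠ w)
    (hv' : v' ≠ 0) (hw' : w' ≠ 0) (hvw' : v' ≠ w') :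
    ∃ g ∈ H, (g : Matrix (Fin 4) (Fin 4) F) *ᵥ v = v' ∧ (g : Matrix (Fin 4) (Fin 4) F) *ᵥ w = w' := by
  classical
  haveI : Finite H := Finite.of_equiv _ e.symm.toEquiv
  have hcardH : Nat.card H = 2520 := by rw [Nat.card_congr e.toEquiv, card_alt_seven]
  let Ω := {u : Fin 4 → F // u ≠ 0}
  have hne : ∀ (g : H) (u : Ω), ((g : GL (Fin 4) F) : Matrix (Fin 4) (Fin 4) F) *ᵥ u.1 ≠ 0 := fun g u h =>
    u.2 (by
      have := congrArg (fun z => ((g⁻¹ : H) : GL (Fin 4) F).1 *ᵥ z) h
      rw [mulVec_mulVec, ← Units.val_mul, ← Subgroup.coe_mul, inv_mul_cancel, Subgroup.coe_one,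
        Units.val_one, one_mulVec, mulVec_zero] at this
      exact this)
  let act : MulAction H Ω :=
    { smul := fun g u => ⟨((g : GL (Fin 4) F) : Matrix (Fin 4) (Fin 4) F) *ᵥ u.1, hne g u⟩
      one_smul := fun u => Subtype.ext (one_mulVec _)
      mul_smul := fun g h u => Subtype.ext (by
        show ((g * h : H) : GL (Fin 4) F).1 *ᵥ u.1 = _
        rw [Subgroup.coe_mul, Units.val_mul, ← mulVec_mulVec]
        rfl) }
  letI := act
  have hΩ : Nat.card Ω = 15 := by
    rw [Nat.card_eq_fintype_card, Fintype.card_subtype_compl, Fintype.card_subtype_eq, Fintype.card_fun,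
      Fintype.card_fin, hF]
    norm_num
  -- no fixed points of elements of order five
  haveI : Fact (Nat.Prime 5) := ⟨by norm_num⟩
  haveI : Fact (Nat.Prime 7) := ⟨by norm_num⟩
  haveI : Fact (Nat.Prime 2) := ⟨by norm_num⟩
  have hfix : ∀ (g : H) (p : ℕ), p.Prime → g ^ p = 1 → g ≠ 1 → ∀ u u' : Ω, g • u = u → g • u' = u' →
      (p = 5 → False) ∧ (p = 7 → u = u') := by
    intro g p hp hg hg1 u u' hu hu'
    haveI : Fact p.Prime := ⟨hp⟩
    obtain ⟨d, hd4, hd, hmod, htop⟩ := card_fixed hF (g : GL (Fin 4) F) p (by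
      rw [← Subgroup.coe_pow, hg]; rfl)
    have hdne : d ≠ 4 := fun h => hg1 (Subtype.ext (htop h))
    let Z := {z : Fin 4 → F // ((g : GL (Fin 4) F) : Matrix (Fin 4) (Fin 4) F) *ᵥ z = z}
    let z0 : Z := ⟨0, mulVec_zero _⟩
    let z1 : Z := ⟨u.1, congrArg Subtype.val hu⟩
    let z2 : Z := ⟨u'.1, congrArg Subtype.val hu'⟩
    have h01 : z0 ≠ z1 := fun h => u.2 (congrArg Subtype.val h).symm
    have h02 : z0 ≠ z2 := fun h => u'.2 (congrArg Subtype.val h).symm
    refine ⟨fun h5 => ?_, fun h7 => ?_⟩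
    · subst h5
      have h2 : 1 < 2 ^ d := hd ▸ Finite.one_lt_card_iff_nontrivial.2 ⟨z0, z1, h01⟩
      interval_cases d <;> simp_all [Nat.ModEq]
    · subst h7
      have hd1 : d = 1 := by
        have h2 : 1 < 2 ^ d := hd ▸ Finite.one_lt_card_iff_nontrivial.2 ⟨z0, z1, h01⟩
        interval_cases d <;> simp_all [Nat.ModEq]
      rw [hd1, pow_one, Nat.card_eq_two_iff' z0] at hd
      exact Subtype.ext (congrArg Subtype.val (hd.unique h01.symm h02.symm) :)
  obtain ⟨x, hx⟩ := exists_prime_orderOf_dvd_card' (G := H) 5 (by rw [hcardH]; norm_num)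
  have hx5 : x ^ 5 = 1 := hx ▸ pow_orderOf_eq_one x
  have hx1 : x ≠ 1 := fun h => by rw [h, orderOf_one] at hx; norm_num at hx
  have h5dvd : ∀ u : Ω, 5 ∣ Nat.card (orbit H u) := by
    intro u
    have hp : IsPGroup 5 (Subgroup.zpowers x) := IsPGroup.of_card (n := 1) (by rw [Nat.card_zpowers, hx, pow_one])
    have h := hp.card_modEq_card_fixedPoints (orbit H u)
    have h0 : IsEmpty (fixedPoints (Subgroup.zpowers x) (orbit H u)) := ⟨fun z => by
      have hz : x • (z : orbit H u).1 = (z : orbit H u).1 :=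
        congrArg Subtype.val (z.2 ⟨x, Subgroup.mem_zpowers x⟩)
      exact (hfix x 5 (by norm_num) hx5 hx1 _ _ hz hz).1 rfl⟩
    rw [Nat.card_of_isEmpty (α := fixedPoints (Subgroup.zpowers x) (orbit H u))] at h
    exact Nat.modEq_zero_iff_dvd.1 h
  have horb : ∀ u : Ω, Nat.card (orbit H u) = (stabilizer H u).index := fun u => by
    rw [index_stabilizer, Nat.card_coe_set_eq]
  have hlarge : ∀ u : Ω, 7 ≤ Nat.card (orbit H u) := by
    intro u
    by_contra h
    rw [horb] at h
    have ht := eq_top_of_index_lt e (stabilizer H u) (by omega)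
    exact (hfix x 5 (by norm_num) hx5 hx1 u u (mem_stabilizer_iff.1 (ht ▸ Subgroup.mem_top x)) (mem_stabilizer_iff.1 (ht ▸ Subgroup.mem_top x))).1 rfl
  have htrans : ∀ a b : Ω, ∃ g : H, g • a = b := by
    intro a b
    by_contra hc
    have hab : b ∉ orbit H a := fun ⟨g, hg⟩ => hc ⟨g, hg⟩
    have hdisj : Disjoint (orbit H a) (orbit H b) := by
      rcases orbit.eq_or_disjoint a b (G := H) with h | h
      · exact absurd (h ▸ mem_orbit_self b) hab
      · exact h
    have hu : (orbit H a).ncard + (orbit H b).ncard ≤ 15 := by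
      rw [← Set.ncard_union_eq hdisj (Set.toFinite _) (Set.toFinite _), ← hΩ, ← Set.ncard_univ]
      exact Set.ncard_le_ncard (Set.subset_univ _) (Set.toFinite _)
    have h1 := h5dvd a
    have h2 := h5dvd b
    have h3 := hlarge a
    have h4 := hlarge b
    rw [Nat.card_coe_set_eq] at h1 h2 h3 h4
    omega
  -- an involution and a point it moves
  obtain ⟨t, ht⟩ := exists_prime_orderOf_dvd_card' (G := H) 2 (by rw [hcardH]; norm_num)
  have ht2 : t ^ 2 = 1 := ht ▸ pow_orderOf_eq_one t
  obtain ⟨a, ha⟩ : ∃ a : Ω, t • a ≠ a := by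
    by_contra hc
    push Not at hc
    have ht1 : (t : GL (Fin 4) F) = 1 := by
      apply Units.ext
      apply Matrix.toLin'.injective
      refine LinearMap.ext fun z => ?_
      by_cases hz : z = 0
      · simp [hz]
      · rw [Matrix.toLin'_apply, Matrix.toLin'_apply, Units.val_one, one_mulVec]
        exact congrArg Subtype.val (hc ⟨z, hz⟩)
    rw [show t = 1 from Subtype.ext ht1, orderOf_one] at ht
    norm_num at ht
  set K := stabilizer H a with hK
  have hKi : K.index = 15 := by
    rw [hK, ← horb, ← hΩ, Nat.card_coe_set_eq, ← Set.ncard_univ]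
    congr 1
    exact Set.eq_univ_of_forall fun b => (htrans a b)
  have hKc : Nat.card K = 168 := by
    have := K.card_mul_index
    rw [hcardH, hKi] at this
    omega
  obtain ⟨y, hy⟩ := exists_prime_orderOf_dvd_card' (G := K) 7 (by rw [hKc]; norm_num)
  have hy7 : y ^ 7 = 1 := hy ▸ pow_orderOf_eq_one y
  have hy1 : (y : H) ≠ 1 := fun h => by
    rw [show y = 1 from Subtype.ext h, orderOf_one] at hy; norm_num at hy
  set b := t • a with hb
  have hsub : orbit K b ⊆ {a}ᶜ := by
    rintro z ⟨k, rfl⟩ hz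
    refine ha ?_
    have hz' : (k : H) • b = a := hz
    have : b = a := by
      rw [← inv_smul_smul (k : H) b, hz', inv_smul_eq_iff]
      exact (mem_stabilizer_iff.1 k.2).symm
    exact this
  have h7 : 7 ∣ Nat.card (orbit K b) := by
    have hp : IsPGroup 7 (Subgroup.zpowers y) := IsPGroup.of_card (n := 1) (by rw [Nat.card_zpowers, hy, pow_one])
    have h := hp.card_modEq_card_fixedPoints (orbit K b)
    have h0 : IsEmpty (fixedPoints (Subgroup.zpowers y) (orbit K b)) := ⟨fun z => by
      have hz : (y : H) • (z : orbit K b).1 = (z : orbit K b).1 :=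
        congrArg Subtype.val (z.2 ⟨y, Subgroup.mem_zpowers y⟩)
      have hya : (y : H) • a = a := mem_stabilizer_iff.1 y.2
      exact hsub (z : orbit K b).2 ((hfix (y : H) 7 (by norm_num)
        (by rw [← Subgroup.coe_pow, hy7]; rfl) hy1 _ _ hz hya).2 rfl)⟩
    rw [Nat.card_of_isEmpty (α := fixedPoints (Subgroup.zpowers y) (orbit K b))] at h
    exact Nat.modEq_zero_iff_dvd.1 h
  have h14 : (orbit K b).ncard ≤ 14 := by
    refine (Set.ncard_le_ncard hsub (Set.toFinite _)).trans ?_
    rw [Set.ncard_compl, hΩ, Set.ncard_singleton]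
  -- the orbital of `(a, t • a)` is symmetric
  have hR : (orbit K b).ncard = 14 := by
    rw [Nat.card_coe_set_eq] at h7
    have hpos : 0 < (orbit K b).ncard := (Set.ncard_pos (Set.toFinite _)).2 ⟨b, mem_orbit_self b⟩
    by_contra hne'
    have hseven : (orbit K b).ncard = 7 := by omega
    have hcard : Nat.card (orbit H (a, b)) = 105 := by
      rw [Nat.card_coe_set_eq, show (orbit H (a, b)).ncard = (stabilizer H (a, b)).index from
        (index_stabilizer H (a, b)).symm]
      have hst : stabilizer H (a, b) = K ⊓ stabilizer H b := by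
        ext g
        rw [Subgroup.mem_inf, hK, mem_stabilizer_iff, mem_stabilizer_iff, mem_stabilizer_iff]
        exact Prod.ext_iff
      rw [hst, ← Subgroup.relIndex_mul_index (inf_le_left : K ⊓ stabilizer H b ≤ K), hKi,
        Subgroup.inf_relIndex_left]
      have : (stabilizer H b).relIndex K = (orbit K b).ncard := by
        rw [← index_stabilizer, Subgroup.relIndex]
        congr 1
      rw [this, hseven]
    have hswap : ∀ p ∈ orbit H (a, b), (p.2, p.1) ∈ orbit H (a, b) := by
      rintro p ⟨g, rfl⟩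
      refine ⟨g * t, ?_⟩
      show (g * t) • (a, b) = ((g • (a, b)).2, (g • (a, b)).1)
      rw [Prod.smul_mk, Prod.smul_mk, hb, mul_smul, mul_smul, ← mul_smul t t, ← pow_two, ht2, one_smul]
    let f : orbit H (a, b) → orbit H (a, b) := fun p => ⟨(p.1.2, p.1.1), hswap _ p.2⟩
    have hf2 : Function.Involutive f := fun p => rfl
    have hf : ∀ p, f p ≠ p := by
      rintro ⟨p, g, rfl⟩ h
      have h' : g • b = g • a := congrArg Prod.fst (congrArg Subtype.val h)
      exact ha (MulAction.injective g h')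
    have hinv : (hf2.toPerm f) ^ 2 = 1 := by
      rw [pow_two]
      exact Equiv.ext fun p => hf2 p
    haveI : Fintype (orbit H (a, b)) := Fintype.ofFinite _
    have h2 := Equiv.Perm.card_compl_support_modEq (p := 2) (n := 1) (σ := hf2.toPerm f) (by simpa using hinv)
    have hsupp : (hf2.toPerm f).supportᶜ = ∅ := by
      ext p; simp [Equiv.Perm.mem_support, hf p]
    rw [hsupp, Finset.card_empty, ← Nat.card_eq_fintype_card, hcard] at h2
    norm_num [Nat.ModEq] at h2
  have hall : orbit K b = {a}ᶜ := Set.eq_of_subset_of_ncard_le hsub (by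
    rw [Set.ncard_compl, hΩ, Set.ncard_singleton, hR]) (Set.toFinite _)
  have key : ∀ c d : Ω, c ≠ d → ∃ g : H, g • a = c ∧ g • b = d := by
    intro c d hcd
    obtain ⟨g, hg⟩ := htrans a c
    have hmem : g⁻¹ • d ∈ orbit K b := by
      rw [hall]
      intro h
      apply hcd
      rw [← hg, ← (Set.mem_singleton_iff.1 h : g⁻¹ • d = a), smul_inv_smul]
    obtain ⟨k, hk⟩ := hmem
    refine ⟨g * k, by rw [mul_smul, show (k : H) • a = a from mem_stabilizer_iff.1 k.2, hg], ?_⟩
    rw [mul_smul, show (k : H) • b = g⁻¹ • d from hk, smul_inv_smul]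
  obtain ⟨g1, g1a, g1b⟩ := key ⟨v, hv⟩ ⟨w, hw⟩ (fun h => hvw (congrArg Subtype.val h))
  obtain ⟨g2, g2a, g2b⟩ := key ⟨v', hv'⟩ ⟨w', hw'⟩ (fun h => hvw' (congrArg Subtype.val h))
  refine ⟨(g2 * g1⁻¹ : H), (g2 * g1⁻¹ : H).2, ?_, ?_⟩
  · exact congrArg Subtype.val (show (g2 * g1⁻¹) • (⟨v, hv⟩ : Ω) = ⟨v', hv'⟩ by
      rw [mul_smul, ← g1a, inv_smul_smul, g2a])
  · exact congrArg Subtype.val (show (g2 * g1⁻¹) • (⟨w, hw⟩ : Ω) = ⟨w', hw'⟩ by
      rw [mul_smul, ← g1b, inv_smul_smul, g2b])

theorem exists_subgroup (hF : Fintype.card F = 2) :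
    ∃ H : Subgroup (GL (Fin 4) F), Nonempty (H ≃* alternatingGroup (Fin 7)) := by
  haveI : Fact (Nat.Prime 2) := ⟨Nat.prime_two⟩
  let e : ZMod 2 ≃+* F := ZMod.ringEquivOfPrime F Nat.prime_two hF
  let emb : Fin 7 ≃ {i : Fin 8 // i.val < 7} :=
    { toFun := fun i => ⟨⟨i.val, by omega⟩, i.2⟩
      invFun := fun i => ⟨i.1.val, i.2⟩
      left_inv := fun i => rfl
      right_inv := fun i => rfl }
  let f0 : alternatingGroup (Fin 7) →* alternatingGroup (Fin 8) :=
    ((Equiv.Perm.extendDomainHom emb).comp (alternatingGroup (Fin 7)).subtype).codRestrict _ fun s => by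
      rw [Equiv.Perm.mem_alternatingGroup]
      show Equiv.Perm.sign ((s : Equiv.Perm (Fin 7)).extendDomain emb) = 1
      rw [Equiv.Perm.sign_extendDomain]
      exact s.2
  have hf0 : Function.Injective f0 := fun s t h =>
    Subtype.ext (Equiv.Perm.extendDomainHom_injective emb (congrArg Subtype.val h))
  let f : alternatingGroup (Fin 7) →* GL (Fin 4) F :=
    Matrix.SpecialLinearGroup.toGL.comp ((Matrix.SpecialLinearGroup.map e.toRingHom).comp
      (CfsgLib.GLFourTwo.equivAlt.symm.toMonoidHom.comp f0))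
  have hf : Function.Injective f := by
    have hmap : Function.Injective (Matrix.SpecialLinearGroup.map (n := Fin 4) e.toRingHom) := fun s t h =>
      Subtype.ext (Matrix.map_injective e.injective (congrArg Subtype.val h))
    intro s t h
    exact hf0 (CfsgLib.GLFourTwo.equivAlt.symm.injective (hmap (Matrix.SpecialLinearGroup.toGL_injective h)))
  exact ⟨f.range, ⟨(MonoidHom.ofInjective hf).symm⟩⟩

end CfsgLib.AltSevenFifteen
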